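import Mathlib.GroupTheory.Coxeter.Basic

/-!
# The exchange condition gives a presentation

A surjection of groups generated by involutions is injective as soon as it satisfies the exchange condition and
preserves the orders of products of two generators.
-/

namespace Groth.Agent.RootCox

section

variable {B G : Type*} [Group G]

/-- The word `x y x ...` of length `n`. -/
def alt (x y : B) : ℕ → List B
  | 0 => []
  | n + 1 => x :: alt y x n

theorem alt_length (x y : B) : ∀ n, (alt x y n).length = n
  | 0 => rfl
  | n + 1 => by rw [alt, List.length_cons, alt_length y x n]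

theorem alt_dropLast : ∀ (x y : B) (n : ℕ), (alt x y (n + 1)).dropLast = alt x y n
  | x, y, 0 => rfl
  | x, y, n + 1 => by
    rw [alt, List.dropLast_cons_of_ne_nil (by simp [alt]), alt_dropLast y x n]
    rfl

/-- The product of a word. -/
def pr (σ : B → G) (l : List B) : G := (l.map σ).prod

theorem pr_cons (σ : B → G) (a : B) (l : List B) : pr σ (a :: l) = σ a * pr σ l := by simp [pr]

theorem pr_append (σ : B → G) (l l' : List B) : pr σ (l ++ l') = pr σ l * pr σ l' := by simp [pr]

theorem pr_alt_mul_inv (σ : B → G) (hσ : ∀ i, σ i * σ i = 1) :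
    ∀ (n : ℕ) (x y : B), pr σ (alt x y n) * (pr σ (alt y x n))⁻¹ = (σ x * σ y) ^ n
  | 0, x, y => by simp [alt, pr]
  | n + 1, x, y => by
    have hy : (σ y)⁻¹ = σ y := inv_eq_of_mul_eq_one_left (hσ y)
    rw [alt, alt, pr_cons, pr_cons, mul_inv_rev, hy]
    have ih := pr_alt_mul_inv σ hσ n y x
    calc σ x * pr σ (alt y x n) * ((pr σ (alt x y n))⁻¹ * σ y)
        = σ x * (pr σ (alt y x n) * (pr σ (alt x y n))⁻¹) * σ y := by simp [mul_assoc]
      _ = (σ x * σ y) ^ (n + 1) := by
        rw [ih]
        clear ih
        induction n with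
        | zero => simp
        | succ m hm => rw [pow_succ (σ y * σ x), pow_succ (σ x * σ y) (m + 1), ← hm]; simp [mul_assoc]

end

variable {B Γ W : Type*} [Group Γ] [Group W] (π : Γ →* W) (σ : B → Γ)

/-- The word has minimal length among the words with the same image. -/
def IsRed (l : List B) : Prop := ∀ l', π (pr σ l') = π (pr σ l) → l.length ≤ l'.length

variable (hσ : ∀ i, σ i * σ i = 1)
  (hdih : ∀ i j n, (π (σ i) * π (σ j)) ^ n = 1 → (σ i * σ j) ^ n = 1)
  (hex : ∀ l t, IsRed π σ l → ¬ IsRed π σ (t :: l) →
    ∃ i, i < l.length ∧ π (σ t * pr σ l) = π (pr σ (l.eraseIdx i)))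

theorem isRed_tail {a : B} {l : List B} (h : IsRed π σ (a :: l)) : IsRed π σ l := fun l' hl' => by
  have := h (a :: l') (by rw [pr_cons, pr_cons, map_mul, map_mul, hl'])
  simpa using this

theorem isRed_init {a : B} {l : List B} (h : IsRed π σ (l ++ [a])) : IsRed π σ l := fun l' hl' => by
  have := h (l' ++ [a]) (by rw [pr_append, pr_append, map_mul, map_mul, hl'])
  simpa using this

/-- Any two reduced words of length `n` with the same image have the same product. -/
def C (n : ℕ) : Prop := ∀ l l' : List B, l.length = n → l'.length = n → IsRed π σ l →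
  π (pr σ l) = π (pr σ l') → pr σ l = pr σ l'

section
include hσ hex

theorem step {n : ℕ} (hC : C π σ n) {l v : List B} {t : B} (hl : l.length = n + 1) (hv : v.length = n)
    (hred : IsRed π σ l) (he : π (pr σ l) = π (pr σ (t :: v))) :
    pr σ l = pr σ (t :: v) ∨ (π (pr σ (t :: l.dropLast)) = π (pr σ l) ∧ pr σ (t :: v) = pr σ (t :: l.dropLast)) := by
  have hnot : ¬ IsRed π σ (t :: l) := fun h => by
    have := h v (by rw [pr_cons, map_mul, he, pr_cons, map_mul, ← mul_assoc, ← map_mul π (σ t), hσ, map_one, one_mul])
    simp [hl, hv] at this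
    omega
  obtain ⟨i, hi, hie⟩ := hex l t hred hnot
  have hlen : (t :: l.eraseIdx i).length = n + 1 := by
    rw [List.length_cons, List.length_eraseIdx_of_lt hi]; omega
  have he' : π (pr σ (t :: l.eraseIdx i)) = π (pr σ l) := by
    rw [pr_cons, map_mul, ← hie, ← map_mul, ← mul_assoc, hσ, one_mul]
  have hredt : IsRed π σ (t :: v) := fun l' h => by
    have := hred l' (h.trans he.symm)
    simp [hl, hv] at this ⊢
    exact this
  have htail : pr σ v = pr σ (l.eraseIdx i) := by
    refine hC _ _ hv (by simpa using hlen) (isRed_tail π σ hredt) ?_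
    have h := he'.trans he
    rw [pr_cons, pr_cons, map_mul, map_mul] at h
    exact (mul_left_cancel h).symm
  rcases eq_or_lt_of_le (Nat.lt_succ_iff.mp (hl ▸ hi)) with hin | hin
  · refine Or.inr ?_
    rw [List.dropLast_eq_take, hl, Nat.add_sub_cancel]
    have : l.eraseIdx i = l.take n := by
      rw [List.eraseIdx_eq_take_drop_succ, hin, List.drop_of_length_le (by omega), List.append_nil]
    rw [← this]
    exact ⟨he', by rw [pr_cons, pr_cons, htail]⟩
  · refine Or.inl ?_
    rw [pr_cons, htail, ← pr_cons]
    obtain ⟨l₀, c, rfl⟩ : ∃ l₀ c, l = l₀ ++ [c] :=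
      ⟨l.dropLast, l.getLast (by intro h; simp [h] at hl), (List.dropLast_append_getLast _).symm⟩
    have hl₀ : l₀.length = n := by simpa using hl
    rw [List.eraseIdx_append_of_lt_length (by omega)] at he' ⊢
    rw [← List.cons_append, pr_append σ (t :: _), pr_append σ l₀]
    congr 1
    refine hC _ _ hl₀ ?_ (isRed_init π σ hred) ?_
    · rw [List.length_cons, List.length_eraseIdx_of_lt (by omega)]; omega
    · rw [← List.cons_append, pr_append, pr_append, map_mul, map_mul] at he'
      exact (mul_right_cancel he').symm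

include hdih

theorem alt_case : ∀ (j : ℕ) (u : List B), u.length = j → ∀ (s t : B) (k n : ℕ), k ≠ 0 →
    (alt s t k ++ u).length = n + 1 → C π σ n →
    IsRed π σ (alt s t k ++ u) →
    (alt t s (k + 1) ++ u.dropLast).length = n + 1 →
    π (pr σ (alt t s (k + 1) ++ u.dropLast)) = π (pr σ (alt s t k ++ u)) →
    pr σ (alt s t k ++ u) = pr σ (alt t s (k + 1) ++ u.dropLast) := by
  intro j
  induction j with
  | zero =>
    intro u hu s t k n _ h1 _ _ h2 _
    obtain rfl : u = [] := List.length_eq_zero_iff.mp hu
    simp [alt_length] at h1 h2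
    omega
  | succ j ih =>
    intro u hu s t k n hk h1 hC hred h2 he
    obtain ⟨k, rfl⟩ := Nat.exists_eq_succ_of_ne_zero hk
    rw [Nat.succ_eq_add_one] at *
    have hred' : IsRed π σ (alt t s (k + 1 + 1) ++ u.dropLast) := fun l' h => by
      have := hred l' (h.trans he)
      omega
    have hs : alt s t (k + 1) ++ u = s :: (alt t s k ++ u) := rfl
    rw [hs] at h1 hred he ⊢
    rcases step π σ hσ hex hC h2 (by simpa using h1) hred' he with h | ⟨h3, h4⟩
    · exact h.symm
    · rw [h4]
      cases j with
      | zero =>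
        have hd : u.dropLast = [] := List.length_eq_zero_iff.mp (by simp [hu])
        rw [hd, List.append_nil, alt_dropLast] at h3
        rw [hd, List.append_nil, alt_dropLast] at h4 ⊢
        have h5 : π (pr σ (alt s t (k + 2))) = π (pr σ (alt t s (k + 2))) := h3
        have h6 := pr_alt_mul_inv σ hσ (k + 2) s t
        have h7 : (π (σ s) * π (σ t)) ^ (k + 2) = 1 := by
          rw [← map_mul, ← map_pow, ← h6, map_mul, map_inv, h5, mul_inv_cancel]
        rw [hdih s t _ h7, mul_inv_eq_one] at h6
        exact h6
      | succ j =>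
        have hne : u.dropLast ≠ [] := by
          intro h
          have := congrArg List.length h
          simp [hu] at this
        rw [List.dropLast_append_of_ne_nil hne] at h3 h4 ⊢
        have e : s :: (alt t s (k + 1 + 1) ++ u.dropLast.dropLast) = alt s t (k + 1 + 1 + 1) ++ u.dropLast.dropLast := rfl
        rw [e] at h3 ⊢
        refine (ih u.dropLast (by simp [hu]) t s (k + 1 + 1) n (by omega) h2 hC hred' ?_ h3).symm
        rw [← e, List.length_cons, List.length_append, List.length_dropLast, alt_length]
        rw [List.length_append, alt_length, List.length_dropLast] at h2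
        simp [hu] at h2 ⊢
        omega

theorem claim : ∀ n, C π σ n := by
  intro n
  induction n with
  | zero =>
    intro l l' hl hl' _ _
    rw [List.length_eq_zero_iff.mp hl, List.length_eq_zero_iff.mp hl']
  | succ n ihn =>
    intro l l' hl hl' hred he
    obtain ⟨t, v, rfl⟩ : ∃ t v, l' = t :: v := List.exists_cons_of_length_eq_add_one hl'
    rcases step π σ hσ hex ihn hl (by simpa using hl') hred he with h | ⟨h1, h2⟩
    · exact h
    · rw [h2]
      obtain ⟨s, u, rfl⟩ : ∃ s u, l = s :: u := List.exists_cons_of_length_eq_add_one hl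
      cases n with
      | zero =>
        obtain rfl : u = [] := List.length_eq_zero_iff.mp (by simpa using hl)
        have h5 : π (σ s) * π (σ t) = 1 := by
          have : π (σ t) = π (σ s) := by simpa [pr] using h1
          rw [← this, ← map_mul, hσ, map_one]
        have h6 := hdih s t 1 (by rw [pow_one, h5])
        rw [pow_one] at h6
        simp only [List.dropLast_singleton, pr, List.map_cons, List.map_nil, List.prod_cons, List.prod_nil,
          mul_one]
        exact mul_right_cancel (h6.trans (hσ t).symm)
      | succ m =>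
        have hu : u.length = m + 1 := by simpa using hl
        have e : (s :: u).dropLast = s :: u.dropLast :=
          List.dropLast_cons_of_ne_nil (fun h => by simp [h] at hu)
        rw [e] at h1 ⊢
        refine alt_case π σ hσ hdih hex (m + 1) u hu s t 1 (m + 1) one_ne_zero hl ihn hred ?_ h1
        simp [alt, hu]

theorem exists_reduced_eq : ∀ l : List B, ∃ l', pr σ l' = pr σ l ∧ IsRed π σ l'
  | [] => ⟨[], rfl, fun _ _ => by simp⟩
  | a :: l => by
    obtain ⟨l₁, h1, hr⟩ := exists_reduced_eq l
    by_cases h : IsRed π σ (a :: l₁)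
    · exact ⟨a :: l₁, by rw [pr_cons, pr_cons, h1], h⟩
    obtain ⟨i, hi, hie⟩ := hex l₁ a hr h
    have hlen : (a :: l₁.eraseIdx i).length = l₁.length := by
      rw [List.length_cons, List.length_eraseIdx_of_lt hi]; omega
    have hpi : π (pr σ (a :: l₁.eraseIdx i)) = π (pr σ l₁) := by
      rw [pr_cons, map_mul, ← hie, ← map_mul, ← mul_assoc, hσ, one_mul]
    have hr' : IsRed π σ (a :: l₁.eraseIdx i) := fun l' hl' => by
      rw [hlen]; exact hr l' (hl'.trans hpi)
    have := claim π σ hσ hdih hex _ _ _ rfl hlen hr hpi.symm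
    refine ⟨l₁.eraseIdx i, ?_, isRed_tail π σ hr'⟩
    rw [pr_cons, ← h1, this, pr_cons, ← mul_assoc, hσ, one_mul]

theorem injective_of_exchange (hgen : ∀ x : Γ, ∃ l, pr σ l = x) : Function.Injective π := by
  rw [injective_iff_map_eq_one]
  intro x hx
  obtain ⟨l, rfl⟩ := hgen x
  obtain ⟨l', h1, h2⟩ := exists_reduced_eq π σ hσ hdih hex l
  have := h2 [] (by rw [h1, hx]; simp [pr])
  rw [← h1, List.length_eq_zero_iff.mp (Nat.le_zero.mp this)]
  rfl

end

end Groth.Agent.RootCox
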