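import Groth.Agent.RootData.Inversions
import Groth.Agent.RootData.Parabolic
import Mathlib.Data.List.OfFn

/-!
# Carrying one simple root to another

An element of the Weyl group sending a simple root to a simple root is a product of elements of rank-two
parabolic subgroups doing the same.
-/

namespace Groth.Agent.RootCox

open RootPairing RootD Groth.Agent.RootData

variable {ι R M N : Type*} [CommRing R] [CharZero R] [IsDomain R] [AddCommGroup M] [Module R M]
  [AddCommGroup N] [Module R N] {P : RootPairing ι R M N} [Fintype ι] [P.IsCrystallographic] [P.IsReduced]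
  {Δ : Set ι} (hΔ : Simple P Δ)

theorem co_smul (g : P.Aut) (k : ι) : hΔ.co (g • k) = ∑ a, hΔ.co k a • hΔ.co (g • a) := by
  refine hΔ.co_unique (fun b hb => by simp [Finset.sum_apply, hΔ.co_supp hb]) ?_
  rw [comb_sum]
  simp only [comb_smul, hΔ.co_spec, smul_root]
  rw [← hΔ.co_spec k, Finset.smul_sum]
  exact Finset.sum_congr rfl fun a _ => (smul_comm g (hΔ.co k a) (P.root a)).symm

theorem co_smul_supp {T : Set ι} (hT : T ⊆ Δ) {v : P.Aut} (hv : v ∈ gen P T) :
    ∀ k, (∀ a, a ∉ T → hΔ.co k a = 0) → ∀ a, a ∉ T → hΔ.co (v • k) a = 0 := by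
  classical
  have step : ∀ c ∈ T, ∀ k, (∀ a, a ∉ T → hΔ.co k a = 0) →
      ∀ a, a ∉ T → hΔ.co (RootPairing.Equiv.reflection P c • k) a = 0 := by
    intro c hc k hk a ha
    have hne : a ≠ c := fun e => ha (by rw [e]; exact hc)
    have h := hΔ.co_smul_refl 1 c k
    rw [one_smul, one_smul, one_smul] at h
    rw [refl_smul_idx, h, Pi.sub_apply, Pi.smul_apply, hk a ha, zero_sub, neg_eq_zero, smul_eq_mul,
      hΔ.co_simple (hT hc), Pi.single_eq_of_ne hne, mul_zero]
  induction hv using Subgroup.closure_induction_left with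
  | one => intro k hk; rwa [one_smul]
  | mul_left x hx y _ ih =>
    obtain ⟨c, hc, rfl⟩ := hx
    intro k hk a ha
    rw [mul_smul]
    exact step c hc _ (ih k hk) a ha
  | inv_mul_cancel x hx y _ ih =>
    obtain ⟨c, hc, rfl⟩ := hx
    intro k hk a ha
    rw [inv_eq_of_mul_eq_one_left (refl_mul_self c), mul_smul]
    exact step c hc _ (ih k hk) a ha

include hΔ in
theorem smul_pos_of_minimal {w' : P.Aut} (hw : w' ∈ P.weylGroup) {a : ι} (ha : a ∈ Δ)
    (hmin : (inv' P Δ w').ncard ≤ (inv' P Δ (w' * RootPairing.Equiv.reflection P a)).ncard) :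
    w' • a ∈ posOf P Δ := by
  by_contra h
  let r := RootPairing.Equiv.reflection P a
  have hr : r⁻¹ = r := inv_eq_of_mul_eq_one_left (refl_mul_self a)
  have he : RootPairing.Equiv.reflection P (P.reflectionPerm (w' • a) (w' • a)) = RootPairing.Equiv.reflection P (w' • a) :=
    (refl_eq_of_zsmul (c := -1) (by rw [root_neg, neg_one_zsmul])).symm
  have h1 : RootPairing.Equiv.reflection P (P.reflectionPerm (w' • a) (w' • a)) * (w' * r) = w' := by
    rw [he, ← conj_refl]
    show w' * r * w'⁻¹ * (w' * r) = w'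
    rw [mul_assoc, inv_mul_cancel_left, mul_assoc, refl_mul_self, mul_one]
  have h2 := hΔ.ncard_inv_lt (mul_mem hw (P.reflection_mem_weylGroup a))
    (c := P.reflectionPerm (w' • a) (w' • a)) (hΔ.neg_mem_posOf_iff.mpr h) (by
      rw [mul_inv_rev, mul_smul, ← smul_neg_idx, inv_smul_smul, hr]
      rw [refl_smul_idx, P.reflectionPerm_self]
      exact hΔ.subset_posOf ha)
  rw [h1] at h2
  omega

include hΔ in
theorem tits_step {α β : ι} (hα : α ∈ Δ) (hβ : β ∈ Δ) {w : P.Aut} (hw : w ∈ P.weylGroup) (hw1 : w ≠ 1)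
    (hwα : w • α = β) :
    ∃ (γ : ι) (v w' : P.Aut), γ ∈ Δ ∧ w' ∈ P.weylGroup ∧ v ∈ gen P ({α, γ} : Set ι) ∧ w = w' * v ∧
      (v • α = α ∨ v • α = γ) ∧ w' • (v • α) = β ∧ (inv' P Δ w').ncard < (inv' P Δ w).ncard := by
  classical
  obtain ⟨l, hl, hlw, hmin⟩ := hΔ.exists_reduced hw
  have hne : l ≠ [] := by rintro rfl; exact hw1 (by rw [← hlw]; simp [word])
  set γ := l.getLast hne with hγdef
  have hγ : γ ∈ Δ := hl _ (List.getLast_mem hne)
  have hwγ : w • γ ∉ posOf P Δ := by
    rw [← hlw]; exact hΔ.minimal_last hl hne fun l' h h' => hmin l' h (h'.trans hlw)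
  have hTΔ : ({α, γ} : Set ι) ⊆ Δ := Set.insert_subset hα (Set.singleton_subset_iff.mpr hγ)
  have hgenW : gen P ({α, γ} : Set ι) ≤ P.weylGroup := gen_le _
  let cost : gen P ({α, γ} : Set ι) → ℕ := fun v => (inv' P Δ (w * (v : P.Aut))).ncard
  obtain ⟨u, hu⟩ : ∃ u, ∀ u', cost u ≤ cost u' :=
    ⟨Function.argmin cost, fun u' => Function.argmin_le cost u'⟩
  let w' := w * (u : P.Aut)
  have hw' : w' ∈ P.weylGroup := mul_mem hw (hgenW u.2)
  have hpos : ∀ a ∈ ({α, γ} : Set ι), w' • a ∈ posOf P Δ := fun a ha =>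
    smul_pos_of_minimal hΔ hw' (hTΔ ha) (by
      have := hu (u * ⟨RootPairing.Equiv.reflection P a, Subgroup.subset_closure ⟨a, ha, rfl⟩⟩)
      simpa [cost, w', mul_assoc] using this)
  have hwv : w = w' * (u : P.Aut)⁻¹ := (mul_inv_cancel_right w (u : P.Aut)).symm
  have hk : w' • ((u : P.Aut)⁻¹ • α) = β := by rw [← mul_smul, ← hwv, hwα]
  have hlt : (inv' P Δ w').ncard < (inv' P Δ w).ncard := by
    have h1 : cost u ≤ cost 1 := hu 1
    simp only [cost, OneMemClass.coe_one, mul_one] at h1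
    refine h1.lt_of_ne fun he => hwγ (smul_pos_of_minimal hΔ hw hγ ?_)
    have := hu ⟨RootPairing.Equiv.reflection P γ, Subgroup.subset_closure ⟨γ, by simp, rfl⟩⟩
    simp only [cost] at this
    omega
  refine ⟨γ, (u : P.Aut)⁻¹, w', hγ, hw', inv_mem u.2, hwv, ?_, hk, hlt⟩
  set k := (u : P.Aut)⁻¹ • α with hkdef
  have hsupp : ∀ a, a ∉ ({α, γ} : Set ι) → hΔ.co k a = 0 :=
    co_smul_supp hΔ hTΔ (inv_mem u.2) α fun a ha => by
      rw [hΔ.co_simple hα, Pi.single_eq_of_ne fun e => ha (by simp [e])]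
  have hsum := co_smul hΔ w' k
  rw [hk, hΔ.co_simple hβ] at hsum
  have hterm : ∀ a x, 0 ≤ hΔ.co k a → 0 ≤ (hΔ.co k a • hΔ.co (w' • a)) x := fun a x h0 => by
    rw [Pi.smul_apply, smul_eq_mul]
    by_cases ha : a ∈ ({α, γ} : Set ι)
    · exact mul_nonneg h0 ((hΔ.mem_posOf_iff.mp (hpos a ha)) x)
    · simp [hsupp a ha]
  have hk0 : ∀ a, 0 ≤ hΔ.co k a := by
    rcases hΔ.co_sign k with h | h
    · exact h
    · exfalso
      have h1 := congrFun hsum β
      rw [Pi.single_eq_same, Finset.sum_apply] at h1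
      have : ∑ a, (hΔ.co k a • hΔ.co (w' • a)) β ≤ 0 := Finset.sum_nonpos fun a _ => by
        rw [Pi.smul_apply, smul_eq_mul]
        by_cases ha : a ∈ ({α, γ} : Set ι)
        · exact mul_nonpos_of_nonpos_of_nonneg (h a) ((hΔ.mem_posOf_iff.mp (hpos a ha)) β)
        · simp [hsupp a ha]
      omega
  have honly : ∀ a, hΔ.co k a ≠ 0 → w' • a = β ∧ hΔ.co k a = 1 := by
    intro a ha
    have hm : a ∈ ({α, γ} : Set ι) := by_contra fun h => ha (hsupp a h)
    have hb : ∀ x, x ≠ β → hΔ.co (w' • a) x = 0 := fun x hx => by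
      have h1 := congrFun hsum x
      rw [Pi.single_eq_of_ne hx, Finset.sum_apply] at h1
      have h2 := (Finset.sum_eq_zero_iff_of_nonneg fun b _ => hterm b x (hk0 b)).mp h1.symm a (Finset.mem_univ a)
      rw [Pi.smul_apply, smul_eq_mul, mul_eq_zero] at h2
      exact h2.resolve_left ha
    have hroot : P.root (w' • a) = hΔ.co (w' • a) β • P.root β := by
      rw [← comb_single, ← hΔ.co_spec (w' • a)]
      congr 1
      funext x
      by_cases hx : x = β
      · subst hx; rw [Pi.single_eq_same]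
      · rw [Pi.single_eq_of_ne hx, hb x hx]
    have h1 := congrFun hsum β
    rw [Pi.single_eq_same, Finset.sum_apply] at h1
    have h2 : (hΔ.co k a • hΔ.co (w' • a)) β ≤ 1 := h1 ▸
      Finset.single_le_sum (fun b _ => hterm b β (hk0 b)) (Finset.mem_univ a)
    rw [Pi.smul_apply, smul_eq_mul] at h2
    have h3 : 0 ≤ hΔ.co (w' • a) β := (hΔ.mem_posOf_iff.mp (hpos a hm)) β
    have h4 : hΔ.co (w' • a) β ≠ 0 := fun h => P.ne_zero (w' • a) (by rw [hroot, h, zero_smul])
    have h5 : hΔ.co k a * hΔ.co (w' • a) β = 1 := by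
      have h6 : 0 < hΔ.co k a * hΔ.co (w' • a) β := mul_pos ((hk0 a).lt_of_ne' ha) (h3.lt_of_ne' h4)
      omega
    have h7 := Int.eq_one_of_mul_eq_one_right (hk0 a) h5
    refine ⟨P.root.injective ?_, h7⟩
    rw [h7, one_mul] at h5
    rw [hroot, h5, one_smul]
  have hk1 : ∀ a, hΔ.co k a ≠ 0 → a ∈ Δ → k = a := fun a ha haΔ => by
    apply P.root.injective
    rw [← hΔ.co_spec k, ← hΔ.co_spec a]
    congr 1
    rw [hΔ.co_simple haΔ]
    funext x
    by_cases hx : x = a
    · subst hx; rw [Pi.single_eq_same, (honly x ha).2]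
    · rw [Pi.single_eq_of_ne hx]
      by_contra hxne
      exact hx ((MulAction.injective w') ((honly x hxne).1.trans (honly a ha).1.symm))
  obtain ⟨a, ha⟩ := hΔ.co_ne_zero k
  have hm : a ∈ ({α, γ} : Set ι) := by_contra fun h => ha (hsupp a h)
  rcases hm with rfl | hm
  · exact Or.inl (hk1 a ha hα)
  · rw [Set.mem_singleton_iff] at hm
    subst hm
    exact Or.inr (hk1 _ ha hγ)

include hΔ in
theorem tits {α β : ι} (hα : α ∈ Δ) (hβ : β ∈ Δ) {w : P.Aut} (hw : w ∈ P.weylGroup) (hwα : w • α = β) :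
    ∃ (m : ℕ) (a : Fin (m + 1) → ι) (ws : Fin m → P.Aut),
      (∀ i, a i ∈ Δ) ∧ a 0 = α ∧ a (Fin.last m) = β ∧
      (∀ i, ws i ∈ P.weylGroup) ∧
      w = (List.ofFn ws).reverse.prod ∧
      (∀ i : Fin m, ws i • a (Fin.castSucc i) = a (Fin.succ i)) ∧
      ∀ i : Fin m, ∃ γ ∈ Δ,
        ws i ∈ gen P ({a (Fin.castSucc i), γ} : Set ι) ∧
        (a (Fin.castSucc i) ≠ a (Fin.succ i) → γ = a (Fin.succ i)) := by
  induction hn : (inv' P Δ w).ncard using Nat.strong_induction_on generalizing w α with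
  | _ n ih =>
  by_cases hw1 : w = 1
  · subst hw1
    rw [one_smul] at hwα
    subst hwα
    exact ⟨0, fun _ => α, Fin.elim0, fun _ => hα, rfl, rfl, fun i => i.elim0, by simp, fun i => i.elim0,
      fun i => i.elim0⟩
  obtain ⟨γ, v, w', hγ, hw', hv, hwv, hor, hk, hlt⟩ := tits_step hΔ hα hβ hw hw1 hwα
  have hα' : v • α ∈ Δ := by rcases hor with h | h <;> rw [h] <;> assumption
  obtain ⟨m, a, ws, h1, h2, h3, h4, h5, h6, h7⟩ := ih _ (hn ▸ hlt) hα' hw' hk rfl
  refine ⟨m + 1, Fin.cons α a, Fin.cons v ws, ?_, by simp, ?_, ?_, ?_, ?_, ?_⟩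
  · intro i; cases i using Fin.cases with
    | zero => simpa using hα
    | succ i => simpa using h1 i
  · rw [← Fin.succ_last, Fin.cons_succ, h3]
  · intro i; cases i using Fin.cases with
    | zero => simpa using gen_le _ hv
    | succ i => simpa using h4 i
  · rw [List.ofFn_cons, List.reverse_cons, List.prod_append, ← h5, hwv]
    simp
  · intro i; cases i using Fin.cases with
    | zero => simp [h2]
    | succ i => simpa using h6 i
  · intro i; cases i using Fin.cases with
    | zero =>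
      refine ⟨γ, hγ, by simpa using hv, fun hne => ?_⟩
      simp only [Fin.castSucc_zero, Fin.cons_zero, Fin.cons_succ, h2] at hne ⊢
      exact (hor.resolve_left fun h => hne h.symm).symm
    | succ i => simpa using h7 i

end Groth.Agent.RootCox
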