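import Groth.Agent.RootCox.Presentation
import Groth.Agent.RootData.Inversions

/-!
# The Weyl group of a reduced root pairing is a Coxeter group
-/

namespace Groth.Agent.RootCox

open RootPairing RootD Groth.Agent.RootData

variable {ι R M N : Type*} [CommRing R] [CharZero R] [IsDomain R] [AddCommGroup M] [Module R M]
  [AddCommGroup N] [Module R N] {P : RootPairing ι R M N} [Fintype ι] [P.IsCrystallographic] [P.IsReduced]
  (b : P.Base)

theorem refl_ne {i j : ι} (hi : i ∈ b.support) (hj : j ∈ b.support) (hij : i ≠ j) :
    RootPairing.Equiv.reflection P i ≠ RootPairing.Equiv.reflection P j := by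
  intro h
  have hΔ := Simple.of_base b
  have h1 := (hΔ.refl_pos_ne isIndiv_of_reduced (a := i) (Finset.mem_coe.mpr hi)
    (hΔ.subset_posOf (Finset.mem_coe.mpr hj)) hij.symm).1
  rw [← refl_smul_idx, h, refl_smul_idx] at h1
  exact hΔ.refl_self_notMem (Finset.mem_coe.mpr hj) h1

/-- The matrix of the orders of the products of two simple reflections. -/
noncomputable def cox : CoxeterMatrix ↥b.support where
  M := fun j k => orderOf (RootPairing.Equiv.reflection P (j : ι) * RootPairing.Equiv.reflection P (k : ι))
  isSymm := Matrix.IsSymm.ext fun j k => by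
    have h : ∀ i : ι, (RootPairing.Equiv.reflection P i)⁻¹ = RootPairing.Equiv.reflection P i := fun i =>
      inv_eq_of_mul_eq_one_left (refl_mul_self i)
    show orderOf _ = orderOf _
    rw [← orderOf_inv, mul_inv_rev, h, h]
  diagonal j := by show orderOf _ = 1; rw [refl_mul_self, orderOf_one]
  off_diagonal j k hjk h := by
    change orderOf _ = 1 at h
    rw [orderOf_eq_one_iff, mul_eq_one_iff_eq_inv, inv_eq_of_mul_eq_one_left (refl_mul_self _)] at h
    exact refl_ne b j.2 k.2 (fun e => hjk (Subtype.ext e)) h

/-- A simple reflection in the Weyl group. -/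
def s (j : ↥b.support) : P.weylGroup :=
  ⟨RootPairing.Equiv.reflection P (j : ι), P.reflection_mem_weylGroup (j : ι)⟩

theorem s_liftable : (cox b).IsLiftable (s b) := fun j k => by
  apply Subtype.ext
  rw [SubgroupClass.coe_pow]
  exact pow_orderOf_eq_one _

/-- The canonical map from the Coxeter group onto the Weyl group. -/
noncomputable def toWeyl : (cox b).Group →* P.weylGroup :=
  (cox b).toCoxeterSystem.lift ⟨s b, s_liftable b⟩

theorem toWeyl_simple (j : ↥b.support) : toWeyl b ((cox b).simple j) = s b j :=
  (cox b).toCoxeterSystem.lift_apply_simple (s_liftable b) j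

theorem toWeyl_pr (l : List ↥b.support) :
    ((toWeyl b (pr (cox b).simple l) : P.weylGroup) : P.Aut) = word P (l.map Subtype.val) := by
  induction l with
  | nil => simp [pr, word]
  | cons a l ih => rw [pr_cons, map_mul, List.map_cons, word_cons, Subgroup.coe_mul, ih, toWeyl_simple]; rfl

theorem toWeyl_injective : Function.Injective (toWeyl b) := by
  have hΔ := Simple.of_base b
  have hsq : ∀ i, (cox b).simple i * (cox b).simple i = 1 := fun i =>
    (cox b).toCoxeterSystem.simple_mul_simple_self i
  refine injective_of_exchange (toWeyl b) (cox b).simple hsq (fun i j n h => ?_) (fun l t hred hnot => ?_)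
    fun x => ?_
  · have h1 : (RootPairing.Equiv.reflection P (i : ι) * RootPairing.Equiv.reflection P (j : ι)) ^ n = 1 := by
      have := congrArg Subtype.val h
      rw [toWeyl_simple, toWeyl_simple, SubgroupClass.coe_pow, Subgroup.coe_mul] at this
      exact this
    obtain ⟨c, rfl⟩ := orderOf_dvd_of_pow_eq_one h1
    rw [pow_mul]
    have := (cox b).toCoxeterSystem.simple_mul_simple_pow i j
    change ((cox b).simple i * (cox b).simple j) ^ _ = 1 at this
    rw [show orderOf (RootPairing.Equiv.reflection P (i : ι) * RootPairing.Equiv.reflection P (j : ι)) =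
      (cox b).M i j from rfl, this, one_pow]
  · have hlist : ∀ l' : List ι, (∀ a ∈ l', a ∈ (b.support : Set ι)) →
        ∃ L : List ↥b.support, L.map Subtype.val = l' := fun l' h =>
      ⟨l'.pmap Subtype.mk fun a ha => Finset.mem_coe.mp (h a ha), by simp [List.map_pmap]⟩
    have hmem : ∀ L : List ↥b.support, ∀ a ∈ L.map Subtype.val, a ∈ (b.support : Set ι) := fun L a ha => by
      obtain ⟨x, -, rfl⟩ := List.mem_map.mp ha
      exact Finset.mem_coe.mpr x.2
    have hmin : ∀ l' : List ι, (∀ a ∈ l', a ∈ (b.support : Set ι)) →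
        word P l' = word P (l.map Subtype.val) → (l.map Subtype.val).length ≤ l'.length := fun l' h he => by
      obtain ⟨L, rfl⟩ := hlist l' h
      simp only [List.length_map]
      exact hred L (Subtype.ext (by rw [toWeyl_pr, toWeyl_pr, he]))
    have hneg : (word P (l.map Subtype.val))⁻¹ • (t : ι) ∉ posOf P (b.support : Set ι) := by
      intro hpos
      have hlt := hΔ.ncard_inv_lt (word_mem_weylGroup _) (hΔ.subset_posOf (Finset.mem_coe.mpr t.2)) hpos
      rw [hΔ.ncard_inv_reduced _ (hmem l) hmin] at hlt
      obtain ⟨l₀, hl₀, hl₀e, hl₀m⟩ := hΔ.exists_reduced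
        (mul_mem (P.reflection_mem_weylGroup (t : ι)) (word_mem_weylGroup (l.map Subtype.val)))
      rw [← hl₀e, hΔ.ncard_inv_reduced l₀ hl₀ (fun l' h h' => hl₀m l' h (h'.trans hl₀e))] at hlt
      refine hnot fun l' he => ?_
      have h2 := hl₀m (l'.map Subtype.val) (hmem l') (by
        rw [← toWeyl_pr, he, toWeyl_pr, List.map_cons, word_cons])
      simp only [List.length_map, List.length_cons] at hlt h2 ⊢
      omega
    obtain ⟨i, hi, hie⟩ := hΔ.exchange_root _ (hmem l) _ (hΔ.subset_posOf (Finset.mem_coe.mpr t.2)) hneg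
    rw [List.length_map] at hi
    refine ⟨i, hi, Subtype.ext ?_⟩
    rw [← pr_cons, toWeyl_pr, toWeyl_pr, List.map_cons, word_cons, List.eraseIdx_eq_take_drop_succ,
      List.map_append, word_append, List.map_take, List.map_drop, ← hie, mul_assoc, ← word_append,
      List.take_append_drop]
  · obtain ⟨ω, rfl⟩ := (cox b).toCoxeterSystem.wordProd_surjective x
    exact ⟨ω, rfl⟩

theorem toWeyl_surjective : Function.Surjective (toWeyl b) := fun g => by
  have hΔ := Simple.of_base b
  have hg : (g : P.Aut) ∈ gen P (b.support : Set ι) := by rw [hΔ.gen_eq_weylGroup]; exact g.2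
  obtain ⟨l, hl, he⟩ := exists_word hg
  refine ⟨pr (cox b).simple (l.pmap Subtype.mk fun a ha => Finset.mem_coe.mp (hl a ha)), Subtype.ext ?_⟩
  rw [toWeyl_pr, ← he]
  simp [List.map_pmap]

/-- The Weyl group with its Coxeter system. -/
noncomputable def system : CoxeterSystem (cox b) P.weylGroup :=
  ⟨(MulEquiv.ofBijective (toWeyl b) ⟨toWeyl_injective b, toWeyl_surjective b⟩).symm⟩

theorem system_simple (j : ↥b.support) :
    ((system b).simple j : P.Aut) = RootPairing.Equiv.reflection P (j : ι) :=
  congrArg Subtype.val (toWeyl_simple b j)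

end Groth.Agent.RootCox
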